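import Mathlib
import Groth.Prelude.Def_EtGm

/-!
# Étale neighbourhoods carrying a root of the cyclotomic polynomial (helper22)
-/

set_option autoImplicit false
universe u
open CategoryTheory CategoryTheory.Limits AlgebraicGeometry Opposite Polynomial

namespace Groth.Agent.Lib.Helper22.Tate

noncomputable section

section Alg

variable (A : Type u) [CommRing A] (n : ℕ) (hn : 0 < n)

include hn in
/-- `Φ_n' p₁ + Φ_n p₂ = n`. -/
lemma cyclotomic_cond : ∃ p₁ p₂ : A[X],
    derivative (cyclotomic n A) * p₁ + cyclotomic n A * p₂ = C (n : A) := by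
  obtain ⟨h, hh⟩ := cyclotomic.dvd_X_pow_sub_one n A
  have hd := congrArg derivative hh
  simp only [derivative_sub, derivative_X_pow, derivative_one, sub_zero, derivative_mul] at hd
  have hX : (X : A[X]) ^ (n - 1) * X = cyclotomic n A * h + 1 := by
    rw [pow_sub_one_mul hn.ne', ← hh]
    ring
  refine ⟨h * X, derivative h * X - C (n : A) * h, ?_⟩
  linear_combination (-X) * hd + (C (n : A)) * hX

lemma aeval_cyclotomic_int {S : Type*} [CommRing S] [Algebra A S] (x : S) :
    aeval x (cyclotomic n A) = aeval x (cyclotomic n ℤ) := by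
  rw [← map_cyclotomic_int n A, aeval_def, eval₂_map, aeval_def]
  have : (algebraMap A S).comp (Int.castRingHom A) = algebraMap ℤ S := RingHom.ext_int _ _
  rw [this]

/-- The standard étale pair `(Φ_n, n)`. -/
def cycloPair : StandardEtalePair A where
  f := cyclotomic n A
  monic_f := cyclotomic.monic n A
  g := C (n : A)
  cond := by
    obtain ⟨p₁, p₂, h⟩ := cyclotomic_cond A n hn
    exact ⟨p₁, p₂, 1, by rw [pow_one]; exact h⟩

include hn in
lemma cycloPair_root : aeval (cycloPair A n hn).X (cyclotomic n ℤ) = 0 := by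
  have h := (cycloPair A n hn).hasMap_X.1
  change aeval (cycloPair A n hn).X (cyclotomic n A) = 0 at h
  rw [aeval_cyclotomic_int] at h
  exact h

include hn in
/-- Every prime of `A` not containing `n` lifts to the standard étale algebra. -/
lemma exists_prime_over (hA : IsUnit (n : A)) (p : Ideal A) [p.IsPrime] :
    ∃ q : Ideal (cycloPair A n hn).Ring, q.IsPrime ∧ q.comap (algebraMap A _) = p := by
  let K := AlgebraicClosure p.ResidueField
  have hdeg : (cyclotomic n K).degree ≠ 0 := (degree_cyclotomic_pos n K hn).ne'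
  obtain ⟨ζ, hζ⟩ := IsAlgClosed.exists_root (cyclotomic n K) hdeg
  have hmap : (cycloPair A n hn).HasMap ζ := by
    constructor
    · change aeval ζ (cyclotomic n A) = 0
      rw [aeval_cyclotomic_int, ← aeval_cyclotomic_int K n ζ]
      exact hζ
    · change IsUnit (aeval ζ (C (n : A)))
      rw [aeval_C]
      exact hA.map (algebraMap A K)
  let ψ := (cycloPair A n hn).lift ζ hmap
  refine ⟨RingHom.ker ψ.toRingHom, RingHom.ker_isPrime _, ?_⟩
  ext a
  rw [Ideal.mem_comap, RingHom.mem_ker]
  have h1 : ψ.toRingHom (algebraMap A (cycloPair A n hn).Ring a) = algebraMap A K a := ψ.commutes a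
  rw [h1, IsScalarTower.algebraMap_apply A p.ResidueField K,
    map_eq_zero_iff _ (algebraMap p.ResidueField K).injective,
    Ideal.algebraMap_residueField_eq_zero]

end Alg

/-- Étale neighbourhoods carrying a root of the `n`-th cyclotomic polynomial. -/
theorem exists_etale_cyclotomic (X : Scheme.{u}) (n : ℕ) (hn : 0 < n)
    (hunit : IsUnit (n : Γ(X, ⊤))) (x : X) :
    ∃ (W : Scheme.{u}) (w : W ⟶ X) (_ : Etale w), x ∈ Set.range w ∧
      ∃ ζ : Γ(W, ⊤), aeval ζ (cyclotomic n ℤ) = 0 := by
  obtain ⟨V, hV, hxV, -⟩ := exists_isAffineOpen_mem_and_subset (x := x) (U := ⊤) trivial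
  have hA : IsUnit (n : Γ(X, V)) := by
    have := hunit.map (X.presheaf.map (homOfLE (le_top : V ≤ ⊤)).op).hom
    simpa using this
  let P := cycloPair Γ(X, V) n hn
  let φ : Γ(X, V) ⟶ CommRingCat.of P.Ring := CommRingCat.ofHom (algebraMap Γ(X, V) P.Ring)
  let w : Spec (CommRingCat.of P.Ring) ⟶ X := Spec.map φ ≫ hV.fromSpec
  have hE1 : Etale (Spec.map φ) := by
    rw [HasRingHomProperty.Spec_iff (P := @Etale)]
    exact RingHom.etale_algebraMap.2 inferInstance
  refine ⟨_, w, inferInstance, ?_, ?_⟩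
  · have hx : x ∈ Set.range hV.fromSpec := by rw [hV.range_fromSpec]; exact hxV
    obtain ⟨p, rfl⟩ := hx
    obtain ⟨q, hq, hqp⟩ := exists_prime_over Γ(X, V) n hn hA p.asIdeal
    refine ⟨⟨q, hq⟩, ?_⟩
    change hV.fromSpec ((Spec.map φ) ⟨q, hq⟩) = _
    congr 1
    exact PrimeSpectrum.ext hqp
  · refine ⟨(Scheme.ΓSpecIso (CommRingCat.of P.Ring)).inv P.X, ?_⟩
    have h0 := cycloPair_root Γ(X, V) n hn
    have h1 := aeval_algHom_apply (Scheme.ΓSpecIso (CommRingCat.of P.Ring)).inv.hom.toIntAlgHom
      P.X (cyclotomic n ℤ)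
    refine h1.trans ?_
    rw [h0, map_zero]

end

end Groth.Agent.Lib.Helper22.Tate
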