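import Groth.Agent.Lib.Helper22.Tate.TateConst
import Groth.Agent.Lib.Helper22.Tate.CycloCover
import Groth.Agent.Lib.Helper22.EtLoc.SecSuppLoc
import Groth.Agent.S13507

/-!
# Tate twists are étale-locally constant; transfer of vanishing of local cohomology (helper22)
-/

set_option autoImplicit false
universe u
open CategoryTheory CategoryTheory.Limits AlgebraicGeometry Opposite

namespace Groth.Agent.Lib.Helper22.Tate

open Groth.Agent.Lib.Helper22.EtLoc Groth.Agent.Lib.Helper22.EtLoc.SecSuppLoc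
  Groth.Agent.Lib.Helper22.EtStalk

noncomputable section

variable (X : Scheme.{u}) (n : ℕ)

/-- Tate twists are étale-locally isomorphic to the constant sheaf `ℤ/n`. -/
theorem exists_etale_tate_const (hn : 0 < n) (hunit : IsUnit (n : Γ(X, ⊤))) (d : ℕ) (x : X) :
    ∃ (W : Scheme.{u}) (w : W ⟶ X) (_ : Etale w), x ∈ Set.range w ∧
      Nonempty ((res w).obj (EtDual.tate X n d) ≅ (res w).obj (EtCoh.const X (ZMod n))) := by
  obtain ⟨W, w, hw, hx, ζ, hζ⟩ := exists_etale_cyclotomic X n hn hunit x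
  have hunitW : IsUnit (n : Γ(W, ⊤)) := by
    have := hunit.map w.appTop.hom
    simpa using this
  obtain ⟨e⟩ := Groth.Agent.S13507.result W n hn hunitW ζ hζ
  exact ⟨W, w, hw, hx, ⟨resTateIso w n d ≪≫ tateConstIso n e d ≪≫ ResSheafify.resCstIso w _⟩⟩

/-- On the empty scheme every sheaf vanishes. -/
lemma isZero_of_isEmpty [IsEmpty X] (G : EtCoh.Ab X) : IsZero G := by
  apply AC.isZero_of_stalks
  intro Ω _ _ ξ
  exact (IsEmpty.false (ξ (default : Spec (CommRingCat.of Ω)))).elim

variable {X} {U : Scheme.{u}} (j : U ⟶ X) [IsOpenImmersion j] [EtCoh.BCCont j]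

/-- Vanishing of a local cohomology sheaf is invariant under étale-local isomorphisms of the
coefficient sheaf. -/
theorem isZero_locCoh_of_locally_iso (p : ℕ) (F G : EtCoh.Ab X)
    (h : ∀ x : X, ∃ (W : Scheme.{u}) (w : W ⟶ X) (_ : Etale w), x ∈ Set.range w ∧
      Nonempty ((res w).obj F ≅ (res w).obj G))
    (hG : IsZero ((EtDual.locCoh j p).obj G)) : IsZero ((EtDual.locCoh j p).obj F) := by
  apply isZero_of_res
  intro x
  obtain ⟨W, w, hw, hx, ⟨e⟩⟩ := h x
  refine ⟨W, w, hw, hx, ?_⟩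
  obtain ⟨e1⟩ := nonempty_locCoh_res_iso j w p F
  obtain ⟨e2⟩ := nonempty_locCoh_res_iso j w p G
  have hz : IsZero ((res w).obj ((EtDual.locCoh j p).obj G)) := Functor.map_isZero _ hG
  exact IsZero.of_iso hz (e1 ≪≫ (EtDual.locCoh (jW j w) p).mapIso e ≪≫ e2.symm)

end

end Groth.Agent.Lib.Helper22.Tate
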