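import Groth.Agent.Lib.Helper22.Tate.TensorConst
import Groth.Agent.Lib.Helper22.Tate.ResMu

/-!
# Tate twists are constant where `μ_n` is (helper22)
-/

set_option autoImplicit false
universe u
open CategoryTheory CategoryTheory.Limits AlgebraicGeometry Opposite TensorProduct

namespace Groth.Agent.Lib.Helper22.Tate

open Groth.Agent.Lib.Helper22.EtLoc Groth.Agent.Lib.Helper22.EtLoc.ConstHom

noncomputable section

/-- `ℤ/n ⊗_ℤ ℤ/n ≃ ℤ/n`. -/
def zmodTensorEquiv (n : ℕ) : (ZMod n) ⊗[ℤ] (ZMod n) ≃ₗ[ℤ] ZMod n :=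
  LinearEquiv.ofLinear (LinearMap.mul' ℤ (ZMod n))
    ((TensorProduct.mk ℤ (ZMod n) (ZMod n)).flip 1)
    (by
      ext a
      change a * 1 = a
      exact mul_one a)
    (by
      apply TensorProduct.ext'
      intro a b
      change (a * b) ⊗ₜ[ℤ] (1 : ZMod n) = a ⊗ₜ[ℤ] b
      obtain ⟨k, rfl⟩ := ZMod.intCast_surjective b
      have h1 : ((k : ZMod n)) = k • (1 : ZMod n) := by simp
      have h2 : a * (k : ZMod n) = k • a := by rw [zsmul_eq_mul, mul_comm]
      rw [h2, TensorProduct.smul_tmul, ← h1])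

/-- The same, for the lifted groups. -/
def zmodTensorIso (n : ℕ) :
    AddCommGrpCat.of ((ULift.{u + 1} (ZMod n)) ⊗[ℤ] (ULift.{u + 1} (ZMod n))) ≅
      AddCommGrpCat.of (ULift.{u + 1} (ZMod n)) :=
  ((TensorProduct.congr ULift.moduleEquiv ULift.moduleEquiv ≪≫ₗ zmodTensorEquiv n ≪≫ₗ
    ULift.moduleEquiv.symm).toAddEquiv).toAddCommGrpIso

variable {W : Scheme.{u}}

/-- If `μ_n` is constant on `W`, so are all Tate twists. -/
def tateConstIso (n : ℕ) (e : EtCoh.mu W n ≅ EtCoh.const W (ZMod n)) :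
    ∀ d : ℕ, EtDual.tate W n d ≅ EtCoh.const W (ZMod n)
  | 0 => Iso.refl _
  | d + 1 => tensorAbIso (tateConstIso n e d) e ≪≫ (tensorCstIso _ _).symm ≪≫
      (constantSheaf W.smallEtaleTopology AddCommGrpCat.{u + 1}).mapIso (zmodTensorIso n)

end

end Groth.Agent.Lib.Helper22.Tate
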