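import Groth.Agent.Lib.Helper22.Tate.Tensor
import Groth.Agent.Lib.Helper22.EtLoc.ConstHom

/-!
# The tensor product of two constant étale sheaves is constant (helper22)
-/

set_option autoImplicit false
universe u
open CategoryTheory CategoryTheory.Limits AlgebraicGeometry Opposite TensorProduct

namespace Groth.Agent.Lib.Helper22.Tate

open Groth.Agent.Lib.Helper22.EtLoc Groth.Agent.Lib.Helper22.EtLoc.ConstHom
  Groth.Agent.Lib.Helper22.EtStalk Groth.Agent.Lib.Helper22.CechU.Etale

noncomputable section

variable {U : Scheme.{u}} (M N : AddCommGrpCat.{u + 1})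

/-- Constant sections, as a ℤ-linear map. -/
abbrev tsecLin (T : U.Etale) : M →ₗ[ℤ] (cst (U := U) M).obj.obj (op T) :=
  (tsec M T).hom.toIntLinearMap

lemma resLin_tsecLin {T T' : U.Etale} (f : T' ⟶ T) :
    (EtDual.resLin (cst (U := U) M) f.op).comp (tsecLin M T) = tsecLin M T' := by
  ext m
  exact tsec_map M f m

/-- The comparison from the constant presheaf `M ⊗ N` to the presheaf tensor product of the
constant sheaves. -/
def φ : (Functor.const (U.Etale)ᵒᵖ).obj (AddCommGrpCat.of (M ⊗[ℤ] N)) ⟶
    EtDual.tensorPre (cst (U := U) M) (cst N) where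
  app T := AddCommGrpCat.ofHom
    (TensorProduct.map (tsecLin M T.unop) (tsecLin N T.unop)).toAddMonoidHom
  naturality T T' f := by
    ext z
    change TensorProduct.map (tsecLin M T'.unop) (tsecLin N T'.unop) z =
      TensorProduct.map (EtDual.resLin (cst M) f) (EtDual.resLin (cst N) f)
        (TensorProduct.map (tsecLin M T.unop) (tsecLin N T.unop) z)
    rw [← LinearMap.comp_apply, ← TensorProduct.map_comp]
    have h1 := resLin_tsecLin M f.unop
    have h2 := resLin_tsecLin N f.unop
    rw [show f.unop.op = f from rfl] at h1 h2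
    rw [h1, h2]

lemma φ_app_apply (T : U.Etale) (z : M ⊗[ℤ] N) :
    (φ M N).app (op T) z = TensorProduct.map (tsecLin M T) (tsecLin N T) z := rfl

lemma tensorPre_map_tmul (A B : EtCoh.Ab U) {T T' : U.Etale} (f : T' ⟶ T)
    (a : A.obj.obj (op T)) (b : B.obj.obj (op T)) :
    (EtDual.tensorPre A B).map f.op (a ⊗ₜ[ℤ] b) =
      (A.obj.map f.op a) ⊗ₜ[ℤ] (B.obj.map f.op b) := rfl

instance isLocallySurjective_φ :
    Presheaf.IsLocallySurjective U.smallEtaleTopology (φ (U := U) M N) where
  imageSieve_mem {T} s := by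
    induction s using TensorProduct.induction_on with
    | zero =>
      refine U.smallEtaleTopology.superset_covering ?_ (U.smallEtaleTopology.top_mem _)
      intro V g _
      exact ⟨0, (map_zero _).trans (map_zero _).symm⟩
    | tmul a b =>
      have ha := Presheaf.imageSieve_mem U.smallEtaleTopology
        (toSheafify U.smallEtaleTopology ((Functor.const (U.Etale)ᵒᵖ).obj M)) a
      have hb := Presheaf.imageSieve_mem U.smallEtaleTopology
        (toSheafify U.smallEtaleTopology ((Functor.const (U.Etale)ᵒᵖ).obj N)) b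
      refine U.smallEtaleTopology.superset_covering ?_
        (U.smallEtaleTopology.intersection_covering ha hb)
      rintro V g ⟨⟨m, hm⟩, ⟨n, hn⟩⟩
      refine ⟨m ⊗ₜ[ℤ] n, ?_⟩
      have hm' : tsec M V m = (cst (U := U) M).obj.map g.op a := hm
      have hn' : tsec N V n = (cst (U := U) N).obj.map g.op b := hn
      change TensorProduct.map (tsecLin M V) (tsecLin N V) (m ⊗ₜ[ℤ] n) =
        (EtDual.tensorPre (cst M) (cst N)).map g.op (a ⊗ₜ[ℤ] b)
      rw [tensorPre_map_tmul, TensorProduct.map_tmul, ← hm', ← hn']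
      rfl
    | add z₁ z₂ h₁ h₂ =>
      refine U.smallEtaleTopology.superset_covering ?_
        (U.smallEtaleTopology.intersection_covering h₁ h₂)
      rintro V g ⟨⟨t₁, ht₁⟩, ⟨t₂, ht₂⟩⟩
      exact ⟨t₁ + t₂, (map_add _ _ _).trans
        ((congrArg₂ (· + ·) ht₁ ht₂).trans (map_add _ _ _).symm)⟩

/-- A retraction of the constant-section map, at a geometric point. -/
lemma exists_retraction (T : U.Etale) (y : T.left) :
    ∃ r : (cst (U := U) M).obj.obj (op T) →ₗ[ℤ] M, r.comp (tsecLin M T) = LinearMap.id := by
  obtain ⟨Ω, _, _, ξ, x, -⟩ := AC.exists_geomPoint T y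
  refine ⟨((germ ξ (cst M) T x) ≫ (ConstStalk.stalkConstIso ξ M).hom).hom.toIntLinearMap, ?_⟩
  ext m
  change (ConstStalk.stalkConstIso ξ M).hom (germ ξ (cst M) T x (tsec M T m)) = m
  rw [← stalkConstIso_inv_apply ξ M T x m]
  exact congrArg (fun φ => (ConcreteCategory.hom φ) m) (ConstStalk.stalkConstIso ξ M).inv_hom_id

lemma φ_app_injective (T : U.Etale) (y : T.left) :
    Function.Injective ((φ (U := U) M N).app (op T)) := by
  obtain ⟨r, hr⟩ := exists_retraction M T y
  obtain ⟨r', hr'⟩ := exists_retraction N T y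
  intro z z' h
  have h' : TensorProduct.map (tsecLin M T) (tsecLin N T) z =
      TensorProduct.map (tsecLin M T) (tsecLin N T) z' := h
  have h2 := congrArg (TensorProduct.map r r') h'
  rw [← LinearMap.comp_apply, ← LinearMap.comp_apply, ← TensorProduct.map_comp, hr, hr',
    TensorProduct.map_id] at h2
  exact h2

instance isLocallyInjective_φ :
    Presheaf.IsLocallyInjective U.smallEtaleTopology (φ (U := U) M N) where
  equalizerSieve_mem {T} x y h := by
    by_cases hT : Nonempty T.unop.left
    · obtain ⟨t⟩ := hT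
      have hxy : x = y := φ_app_injective M N T.unop t h
      rw [hxy, Presheaf.equalizerSieve_self_eq_top]
      exact U.smallEtaleTopology.top_mem _
    · refine U.smallEtaleTopology.superset_covering bot_le ?_
      rw [mem_smallEtaleTopology_iff]
      intro t
      exact absurd ⟨t⟩ hT

/-- The tensor product of constant sheaves is the constant sheaf on the tensor product. -/
lemma isIso_sheafify_φ :
    IsIso ((presheafToSheaf U.smallEtaleTopology AddCommGrpCat.{u + 1}).map (φ (U := U) M N)) :=
  (GrothendieckTopology.W_iff _ _).1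
    (GrothendieckTopology.W_of_isLocallyBijective U.smallEtaleTopology (φ M N))

def tensorCstIso : cst (U := U) (AddCommGrpCat.of (M ⊗[ℤ] N)) ≅
    EtDual.tensorAb (cst (U := U) M) (cst N) :=
  @asIso _ _ _ _ ((presheafToSheaf U.smallEtaleTopology AddCommGrpCat.{u + 1}).map (φ M N))
    (isIso_sheafify_φ M N)

end

end Groth.Agent.Lib.Helper22.Tate
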